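import Cfsg.Agent.Lib.Helper5.SL2P.Pres
import Cfsg.Agent.Lib.Helper5.Chev.PosAll
import Cfsg.Agent.Lib.Helper5.Chev.RankOne
import Cfsg.Agent.S1032
import Mathlib

/-!
# The rank one pair of a root of a Chevalley datum (helper5)

For every root `r` of one of the seven data, `(x_r, x_{-r})` is a rank one pair in the sense of
`SL2P.Pair`: the relation `n_r(z) x_r(u) n_r(z)⁻¹ = x_{-r}(-z⁻² u)` is proved for the fundamental
roots from the monomial form of `n_i` and the conjugation formula of `h_i(z)`, and transferred along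
the Weyl group.
-/

set_option autoImplicit false

namespace Cfsg.Agent.Lib.Helper5.SL2P

open Cfsg.Lie Cfsg.Agent.Lib.Helper5.Chev
open scoped Matrix

variable {F : Type*} [Field F] {T : FD} {D : ChevalleyDatum}

/-- the conjugation relation of the root `s` -/
def QB (F : Type*) [Field F] (D : ChevalleyDatum) (s : ℕ) : Prop :=
  ∀ z u : F, z ≠ 0 →
    D.nMat F s z * D.x F s u = D.x F (D.neg s) (-(z⁻¹ ^ 2) * u) * D.nMat F s z

theorem nMat_neg_one (p : ℕ) : D.nMat F p (-1) = nInv F D p := by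
  unfold ChevalleyDatum.nMat ChevalleyDatum.wordMat ChevalleyDatum.nWord nInv
  simp only [List.map_cons, List.map_nil, List.prod_cons, List.prod_nil, mul_one]
  have : -(-1 : F)⁻¹ = 1 := by rw [inv_neg, inv_one, neg_neg]
  rw [this]

theorem nMat_eq_hMat_mul {p : ℕ} (hp : Additive F D p) (hq : Additive F D (D.neg p)) (z : F) :
    D.nMat F p z = D.hMat F p z * D.nMat F p 1 := by
  rw [hMat_eq, Matrix.mul_assoc, nMat_neg_one, nInv_mul_nMat hp hq, Matrix.mul_one]

/-- the relation for a fundamental root -/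
theorem QB_simple (hD : D ∈ [chevG2, chevB2, chevD4, chevF4, chevE6, chevE7, chevE8])
    (hA : T.Agrees D) {i B : ℕ} (hi : i < D.rank) (c : ReflChecks T D i B)
    (hadd : AllAdd F D) : QB F D (D.simple i) := by
  intro z u hz
  have hp : D.simple i < D.nroots := by
    rw [FD.simple_eq' hA i hi]; exact hA.simple_lt i hi
  have hq : D.neg (D.simple i) < D.nroots := by
    rw [FD.neg_eq' hA _ hp, FD.simple_eq' hA i hi]; exact hA.neg_lt _ (hA.simple_lt i hi)
  have hcert := c.cert hA
  have hw : wOf B (D.simple i) = D.neg (D.simple i) := by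
    have hs := (c.side hA).2.2 (D.simple i) hp
    rw [← hs.2.2, FD.neg_eq' hA _ hp, FD.simple_eq' hA i hi]
    unfold FD.reflect
    rw [if_pos rfl]
  have hη : etaOf B (D.simple i) = -1 := by
    rw [FD.simple_eq' hA i hi]; exact (c.side hA).1
  have hcar : D.cartan i (D.neg (D.simple i)) = -2 := by
    rw [FD.cartan_eq' hA i _ hi hq, ← hw]
    have h1 := hcert.cartan_w i hcert.i_lt (D.simple i) hp
    have h2 : T.cartan i (T.simple i) = 2 := hcert.a_i
    have h3 : (fun j => T.cartan j (T.simple i)) i = 2 := hcert.a_i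
    simp only [h3] at h1
    rw [FD.simple_eq' hA i hi] at h1 ⊢
    linarith
  have h1 := c.conj_x (F := F) hA hi (D.simple i) hp u
  rw [hw, hη] at h1
  rw [nMat_eq_hMat_mul (hadd _ hp) (hadd _ hq) z, Matrix.mul_assoc, h1, ← Matrix.mul_assoc,
    Cfsg.Agent.S1032.result D hD i _ hi hq z hz, hcar, Matrix.mul_assoc]
  congr 2
  have : z ^ (-2 : ℤ) = z⁻¹ ^ 2 := by
    rw [zpow_neg, ← inv_zpow]; norm_cast
  rw [this]
  push_cast
  ring

/-- transfer of the relation along a fundamental reflection -/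
theorem QB_transfer {i B : ℕ} (hA : T.Agrees D) (hi : i < D.rank)
    (c : ReflChecks T D i B) (hp : Additive F D (D.simple i))
    (hq : Additive F D (D.neg (D.simple i))) (s : ℕ) (hs : s < D.nroots)
    (h : QB F D (wOf B s)) : QB F D s := by
  intro z u hz
  have hcert := c.cert hA
  have hr := hcert.w_lt s hs
  have hη2 : ∀ y : F, ((etaOf B (wOf B s) : ℤ) : F) * (((etaOf B (wOf B s) : ℤ) : F) * y) = y := by
    intro y
    rw [← mul_assoc, hcert.eta_sq (F := F) _ hr, one_mul]
  have hη0 : ((etaOf B (wOf B s) : ℤ) : F) ≠ 0 := by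
    intro h0
    have := hη2 1
    rw [h0, zero_mul] at this
    exact zero_ne_one this
  have ex := c.x_eq_conj (F := F) hA hi hp hq s hs
  have en : D.nMat F s z = D.nMat F (D.simple i) 1 *
      D.nMat F (wOf B s) (((etaOf B (wOf B s) : ℤ) : F) * z) * nInv F D (D.simple i) := by
    have h1 := c.conj_nMat (F := F) hA hi (wOf B s) hr (((etaOf B (wOf B s) : ℤ) : F) * z)
    rw [hcert.w_w s hs, hη2] at h1
    rw [h1, Matrix.mul_assoc, nMat_mul_nInv hp hq, Matrix.mul_one]
  have hns : D.neg s < D.nroots := by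
    rw [FD.neg_eq' hA s hs]; exact hA.neg_lt s hs
  have ey := c.x_eq_conj (F := F) hA hi hp hq (D.neg s) hns
  have hw : wOf B (D.neg s) = D.neg (wOf B s) := by
    rw [FD.neg_eq' hA s hs, FD.neg_eq' hA _ hr, hcert.neg_w s hs]
  have he : etaOf B (D.neg (wOf B s)) = etaOf B (wOf B s) := by
    rw [FD.neg_eq' hA _ hr, hcert.neg_eta _ hr]
  simp only [hw, he] at ey
  have key := h (((etaOf B (wOf B s) : ℤ) : F) * z) (((etaOf B (wOf B s) : ℤ) : F) * u)
    (mul_ne_zero hη0 hz)
  have hpar : -((((etaOf B (wOf B s) : ℤ) : F) * z)⁻¹ ^ 2) * (((etaOf B (wOf B s) : ℤ) : F) * u)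
      = ((etaOf B (wOf B s) : ℤ) : F) * (-(z⁻¹ ^ 2) * u) := by
    have h3 : (((etaOf B (wOf B s) : ℤ) : F))⁻¹ = ((etaOf B (wOf B s) : ℤ) : F) := by
      have := hη2 1
      rw [mul_one] at this
      exact inv_eq_of_mul_eq_one_right this
    rw [mul_inv, h3, mul_pow]
    have h4 : ((etaOf B (wOf B s) : ℤ) : F) ^ 2 = 1 := by
      have := hη2 1
      rw [mul_one] at this
      rw [pow_two, this]
    rw [h4]
    ring
  rw [hpar] at key
  rw [en, ex u, ey]
  calc D.nMat F (D.simple i) 1 * D.nMat F (wOf B s) (((etaOf B (wOf B s) : ℤ) : F) * z) *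
        nInv F D (D.simple i) * (D.nMat F (D.simple i) 1 *
          D.x F (wOf B s) (((etaOf B (wOf B s) : ℤ) : F) * u) * nInv F D (D.simple i))
      = D.nMat F (D.simple i) 1 * (D.nMat F (wOf B s) (((etaOf B (wOf B s) : ℤ) : F) * z) *
          (nInv F D (D.simple i) * D.nMat F (D.simple i) 1) *
          D.x F (wOf B s) (((etaOf B (wOf B s) : ℤ) : F) * u)) * nInv F D (D.simple i) := by
        simp only [Matrix.mul_assoc]
    _ = D.nMat F (D.simple i) 1 * (D.x F (D.neg (wOf B s))
          (((etaOf B (wOf B s) : ℤ) : F) * (-(z⁻¹ ^ 2) * u)) *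
          D.nMat F (wOf B s) (((etaOf B (wOf B s) : ℤ) : F) * z)) * nInv F D (D.simple i) := by
        rw [nInv_mul_nMat hp hq, Matrix.mul_one, key]
    _ = D.nMat F (D.simple i) 1 * (D.x F (D.neg (wOf B s))
          (((etaOf B (wOf B s) : ℤ) : F) * (-(z⁻¹ ^ 2) * u)) *
          (nInv F D (D.simple i) * D.nMat F (D.simple i) 1) *
          D.nMat F (wOf B s) (((etaOf B (wOf B s) : ℤ) : F) * z)) * nInv F D (D.simple i) := by
        rw [nInv_mul_nMat hp hq, Matrix.mul_one]
    _ = _ := by simp only [Matrix.mul_assoc]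

/-- the relation for all roots -/
theorem QB_all (D : ChevalleyDatum)
    (hD : D ∈ [chevG2, chevB2, chevD4, chevF4, chevE6, chevE7, chevE8]) :
    ∀ s < D.nroots, QB F D s := by
  obtain ⟨T, Bs, gH, baseH, fuel, hA, hB, hr, hbase⟩ := reach_known D hD
  have hadd : AllAdd F D := allAdd_all D hD
  apply reach_all hA (QB F D) Bs gH baseH fuel hr
  · intro s hs
    obtain ⟨j, hj, rfl⟩ := hbase s hs
    exact QB_simple hD hA hj (hB j hj) hadd
  · intro i hi s hs
    exact ((hB i hi).cert hA).w_lt s hs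
  · intro i hi s hs h
    have hp : D.simple i < D.nroots := by
      rw [FD.simple_eq' hA i hi]; exact hA.simple_lt i hi
    have hq : D.neg (D.simple i) < D.nroots := by
      rw [FD.neg_eq' hA _ hp, FD.simple_eq' hA i hi]; exact hA.neg_lt _ (hA.simple_lt i hi)
    exact QB_transfer hA hi (hB i hi) (hadd _ hp) (hadd _ hq) s hs h

/-- the rank one pair of the root `r` -/
noncomputable def chevPair (D : ChevalleyDatum)
    (hD : D ∈ [chevG2, chevB2, chevD4, chevF4, chevE6, chevE7, chevE8]) (r : ℕ)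
    (hr : r < D.nroots) : Pair F (GL D.Idx F) where
  x := (allAdd_all (F := F) D hD).xU r
  y := (allAdd_all (F := F) D hD).xU (D.neg r)
  x_add := fun t u => Units.ext ((allAdd_all (F := F) D hD).x_add r t u)
  y_add := fun t u => Units.ext ((allAdd_all (F := F) D hD).x_add (D.neg r) t u)
  conj := by
    intro t u ht
    apply Units.ext
    simp only [Units.val_mul, AllAdd.xU_val]
    have h := QB_all (F := F) D hD r hr t u ht
    rw [nMat_eq_prod] at h
    simp only [Matrix.mul_assoc] at h ⊢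
    exact h
  h_mul := by
    intro t u ht hu
    apply Units.ext
    simp only [Units.val_mul, AllAdd.xU_val]
    have h := (hform_all' (F := F) D hD r hr).mul t u ht hu
    rw [hMat_eq, hMat_eq, hMat_eq, nMat_eq_prod, nMat_eq_prod, nMat_eq_prod, nMat_eq_prod] at h
    simp only [Matrix.mul_assoc] at h ⊢
    exact h

theorem chevPair_x (D : ChevalleyDatum)
    (hD : D ∈ [chevG2, chevB2, chevD4, chevF4, chevE6, chevE7, chevE8]) (r : ℕ)
    (hr : r < D.nroots) (t : F) :
    (((chevPair (F := F) D hD r hr).x t : GL D.Idx F) : Matrix D.Idx D.Idx F) = D.x F r t := rfl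

theorem chevPair_y (D : ChevalleyDatum)
    (hD : D ∈ [chevG2, chevB2, chevD4, chevF4, chevE6, chevE7, chevE8]) (r : ℕ)
    (hr : r < D.nroots) (t : F) :
    (((chevPair (F := F) D hD r hr).y t : GL D.Idx F) : Matrix D.Idx D.Idx F)
      = D.x F (D.neg r) t := rfl

theorem closure_chevPair (D : ChevalleyDatum)
    (hD : D ∈ [chevG2, chevB2, chevD4, chevF4, chevE6, chevE7, chevE8]) (r : ℕ)
    (hr : r < D.nroots) :
    Subgroup.closure (Set.range (chevPair (F := F) D hD r hr).x ∪
        Set.range (chevPair (F := F) D hD r hr).y)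
      = D.rootSubgroup F r ⊔ D.rootSubgroup F (D.neg r) := by
  rw [Subgroup.closure_union]
  have h1 : ∀ s : ℕ, Set.range ((allAdd_all (F := F) D hD).xU s)
      = {g : GL D.Idx F | ∃ t : F, (g : Matrix D.Idx D.Idx F) = D.x F s t} := by
    intro s
    ext g
    constructor
    · rintro ⟨t, rfl⟩
      exact ⟨t, rfl⟩
    · rintro ⟨t, ht⟩
      exact ⟨t, Units.ext ht.symm⟩
  unfold ChevalleyDatum.rootSubgroup
  rw [← h1 r, ← h1 (D.neg r)]
  rfl

end Cfsg.Agent.Lib.Helper5.SL2P
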