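import Cfsg.Agent.Lib.Helper5.SL2P.Pres
import Mathlib

/-!
# Products of commuting rank one pairs, and the normal form of the image of `SL₂` (helper5)
-/

set_option autoImplicit false

namespace Cfsg.Agent.Lib.Helper5.SL2P

open Matrix

variable {K : Type*} [Field K] {Γ : Type*} [Group Γ]

theorem mul4_of_commute {a b c d : Γ} (hcb : Commute c b) :
    a * c * (b * d) = a * b * (c * d) := by
  rw [mul_assoc, ← mul_assoc c b d, hcb.eq, mul_assoc b c d, ← mul_assoc]

theorem six_of_commute' (a b c d : Γ) (hca : Commute c a) (hcb : Commute c b)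
    (hda : Commute d a) : a * b * a * (c * d * c) = (a * c) * (b * d) * (a * c) := by
  simp only [mul_assoc]
  rw [hca.symm.left_comm, hcb.symm.left_comm, hda.symm.left_comm]

theorem six_of_commute (a b c d : Γ) (hca : Commute c a) (hcb : Commute c b)
    (hda : Commute d a) : (a * c) * (b * d) * (a * c) = a * b * a * (c * d * c) :=
  (six_of_commute' a b c d hca hcb hda).symm

/-- two pairs commuting elementwise -/
structure PairComm (P Q : Pair K Γ) : Prop where
  xx : ∀ a b, Commute (P.x a) (Q.x b)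
  xy : ∀ a b, Commute (P.x a) (Q.y b)
  yx : ∀ a b, Commute (P.y a) (Q.x b)
  yy : ∀ a b, Commute (P.y a) (Q.y b)

namespace PairComm

variable {P Q : Pair K Γ} (h : PairComm P Q)
include h

theorem wx (a b : K) : Commute (P.w a) (Q.x b) := by
  unfold Pair.w
  exact ((h.xx a b).mul_left (h.yx _ b)).mul_left (h.xx a b)

theorem wy (a b : K) : Commute (P.w a) (Q.y b) := by
  unfold Pair.w
  exact ((h.xy a b).mul_left (h.yy _ b)).mul_left (h.xy a b)

theorem xw (a b : K) : Commute (P.x a) (Q.w b) := by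
  unfold Pair.w
  exact ((h.xx a b).mul_right (h.xy a _)).mul_right (h.xx a b)

theorem yw (a b : K) : Commute (P.y a) (Q.w b) := by
  unfold Pair.w
  exact ((h.yx a b).mul_right (h.yy a _)).mul_right (h.yx a b)

theorem ww (a b : K) : Commute (P.w a) (Q.w b) := by
  have h1 := h.wx a b
  have h2 := h.wy a (-b⁻¹)
  show Commute (P.w a) (Q.x b * Q.y (-b⁻¹) * Q.x b)
  exact (h1.mul_right h2).mul_right h1

end PairComm

/-- the product of two commuting pairs, the first one twisted by a ring endomorphism -/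
def Pair.prodT (P Q : Pair K Γ) (θ : K →+* K) (h : PairComm P Q) : Pair K Γ where
  x t := P.x (θ t) * Q.x t
  y t := P.y (θ t) * Q.y t
  x_add t u := by
    rw [map_add, ← P.x_add, ← Q.x_add]
    exact mul4_of_commute (h.xx _ _).symm
  y_add t u := by
    rw [map_add, ← P.y_add, ← Q.y_add]
    exact mul4_of_commute (h.yy _ _).symm
  conj t u ht := by
    have hθt : θ t ≠ 0 := (map_ne_zero θ).2 ht
    have e1 : θ (-t⁻¹) = -(θ t)⁻¹ := by rw [map_neg, map_inv₀]
    have e2 : θ (-(t⁻¹ ^ 2) * u) = -((θ t)⁻¹ ^ 2) * θ u := by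
      rw [map_mul, map_neg, map_pow, map_inv₀]
    have ew : P.x (θ t) * Q.x t * (P.y (θ (-t⁻¹)) * Q.y (-t⁻¹)) * (P.x (θ t) * Q.x t)
        = P.w (θ t) * Q.w t := by
      rw [e1]
      exact six_of_commute _ _ _ _ (h.xx _ _).symm (h.yx _ _).symm (h.xy _ _).symm
    rw [ew, e2]
    have c1 := P.conj (θ t) (θ u) hθt
    have c2 := Q.conj t u ht
    have c1' : P.w (θ t) * P.x (θ u) = P.y (-((θ t)⁻¹ ^ 2) * θ u) * P.w (θ t) := c1
    have c2' : Q.w t * Q.x u = Q.y (-(t⁻¹ ^ 2) * u) * Q.w t := c2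
    calc P.w (θ t) * Q.w t * (P.x (θ u) * Q.x u)
        = (P.w (θ t) * P.x (θ u)) * (Q.w t * Q.x u) :=
          mul4_of_commute (h.xw _ _).symm
      _ = (P.y (-((θ t)⁻¹ ^ 2) * θ u) * P.w (θ t)) * (Q.y (-(t⁻¹ ^ 2) * u) * Q.w t) := by
          rw [c1', c2']
      _ = P.y (-((θ t)⁻¹ ^ 2) * θ u) * Q.y (-(t⁻¹ ^ 2) * u) * (P.w (θ t) * Q.w t) :=
          mul4_of_commute (h.wy _ _).symm.symm
  h_mul t u ht hu := by
    have hθt : θ t ≠ 0 := (map_ne_zero θ).2 ht
    have hθu : θ u ≠ 0 := (map_ne_zero θ).2 hu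
    have ew : ∀ s : K, s ≠ 0 →
        P.x (θ s) * Q.x s * (P.y (θ (-s⁻¹)) * Q.y (-s⁻¹)) * (P.x (θ s) * Q.x s)
        = P.w (θ s) * Q.w s := by
      intro s _
      have e1 : θ (-s⁻¹) = -(θ s)⁻¹ := by rw [map_neg, map_inv₀]
      rw [e1]
      exact six_of_commute _ _ _ _ (h.xx _ _).symm (h.yx _ _).symm (h.xy _ _).symm
    have em1 : θ (-1) = -1 := by rw [map_neg, map_one]
    have ew1 := ew (-1) (by norm_num)
    rw [em1] at ew1
    have ew1' : P.x (-1) * Q.x (-1) * (P.y (θ (-(-1 : K)⁻¹)) * Q.y (-(-1 : K)⁻¹)) *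
        (P.x (-1) * Q.x (-1)) = P.w (-1) * Q.w (-1) := ew1
    rw [em1, ew t ht, ew u hu, ew (t * u) (mul_ne_zero ht hu), ew1', map_mul]
    have hP := P.h_mul (θ t) (θ u) hθt hθu
    have hQ := Q.h_mul t u ht hu
    have hP' : (P.w (θ t) * P.w (-1)) * (P.w (θ u) * P.w (-1))
        = P.w (θ t * θ u) * P.w (-1) := hP
    have hQ' : (Q.w t * Q.w (-1)) * (Q.w u * Q.w (-1)) = Q.w (t * u) * Q.w (-1) := hQ
    have cc : Commute (Q.w t * Q.w (-1)) (P.w (θ u) * P.w (-1)) :=
      (((h.ww _ _).symm.mul_right (h.ww _ _).symm)).mul_left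
        ((h.ww _ _).symm.mul_right (h.ww _ _).symm)
    calc P.w (θ t) * Q.w t * (P.w (-1) * Q.w (-1)) * (P.w (θ u) * Q.w u * (P.w (-1) * Q.w (-1)))
        = (P.w (θ t) * P.w (-1)) * (Q.w t * Q.w (-1)) *
            ((P.w (θ u) * P.w (-1)) * (Q.w u * Q.w (-1))) := by
          rw [mul4_of_commute (h.ww _ _).symm, mul4_of_commute (h.ww _ _).symm]
      _ = (P.w (θ t) * P.w (-1)) * (P.w (θ u) * P.w (-1)) *
            ((Q.w t * Q.w (-1)) * (Q.w u * Q.w (-1))) := mul4_of_commute cc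
      _ = P.w (θ t * θ u) * P.w (-1) * (Q.w (t * u) * Q.w (-1)) := by rw [hP', hQ']
      _ = P.w (θ t * θ u) * Q.w (t * u) * (P.w (-1) * Q.w (-1)) :=
          (mul4_of_commute (h.ww _ _).symm).symm

theorem Pair.prodT_x (P Q : Pair K Γ) (θ : K →+* K) (h : PairComm P Q) (t : K) :
    (P.prodT Q θ h).x t = P.x (θ t) * Q.x t := rfl

theorem Pair.prodT_y (P Q : Pair K Γ) (θ : K →+* K) (h : PairComm P Q) (t : K) :
    (P.prodT Q θ h).y t = P.y (θ t) * Q.y t := rfl

theorem Pair.prodT_w (P Q : Pair K Γ) (θ : K →+* K) (h : PairComm P Q) (t : K) :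
    (P.prodT Q θ h).w t = P.w (θ t) * Q.w t := by
  have e1 : θ (-t⁻¹) = -(θ t)⁻¹ := by rw [map_neg, map_inv₀]
  show P.x (θ t) * Q.x t * (P.y (θ (-t⁻¹)) * Q.y (-t⁻¹)) * (P.x (θ t) * Q.x t) = _
  rw [e1]
  exact six_of_commute _ _ _ _ (h.xx _ _).symm (h.yx _ _).symm (h.xy _ _).symm

theorem Pair.prodT_h (P Q : Pair K Γ) (θ : K →+* K) (h : PairComm P Q) (t : K) :
    (P.prodT Q θ h).h t = P.h (θ t) * Q.h t := by
  unfold Pair.h
  rw [Pair.prodT_w, Pair.prodT_w, map_neg, map_one]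
  exact mul4_of_commute (h.ww _ _).symm

theorem toPair_w (P : Pair K Γ) (t : K) : toPair P ((aPair K).w t) = P.w t := by
  unfold Pair.w
  rw [map_mul, map_mul, toPair_x, toPair_y]

theorem toPair_h (P : Pair K Γ) (t : K) : toPair P ((aPair K).h t) = P.h t := by
  unfold Pair.h
  rw [map_mul, toPair_w, toPair_w]

theorem toPair_mem_B (P : Pair K Γ) {b : A K} (hb : b ∈ (aPair K).B) : toPair P b ∈ P.B := by
  obtain ⟨u, t, ht, rfl⟩ := hb
  exact ⟨u, t, ht, by rw [map_mul, toPair_x, toPair_h]⟩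

/-- the normal form of an element of `SL₂(K)` and of its image under the homomorphism of a pair -/
theorem Pair.hom_cases (P : Pair K Γ) (φ : SpecialLinearGroup (Fin 2) K →* Γ)
    (hx : ∀ t : K, φ (sx K t) = P.x t) (hy : ∀ t : K, φ (sy K t) = P.y t)
    (g : SpecialLinearGroup (Fin 2) K) :
    (∃ u t : K, t ≠ 0 ∧ g = (slPair K).x u * (slPair K).h t ∧ φ g = P.x u * P.h t) ∨
      (∃ b ∈ P.B, ∃ b' ∈ P.B, φ g = b * P.w 1 * b') := by
  have hcomp : ∀ a' : A K, φ (piA K a') = toPair P a' := by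
    have e : φ.comp (piA K) = toPair P := by
      apply MonoidHom.eq_of_eqOn_dense (closure_aPair (K := K))
      rintro _ (⟨t, rfl⟩ | ⟨t, rfl⟩)
      · show φ (piA K ((aPair K).x t)) = toPair P ((aPair K).x t)
        unfold piA
        rw [toPair_x, toPair_x]
        exact hx t
      · show φ (piA K ((aPair K).y t)) = toPair P ((aPair K).y t)
        unfold piA
        rw [toPair_y, toPair_y]
        exact hy t
    intro a'
    exact DFunLike.congr_fun e a'
  obtain ⟨a', rfl⟩ := piA_surjective g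
  have haS : a' ∈ (aPair K).S := by
    apply (aPair K).closure_subset_S
    rw [closure_aPair]
    exact Subgroup.mem_top a'
  rcases haS with ⟨u, t, ht, rfl⟩ | ⟨b1, hb1, b2, hb2, rfl⟩
  · left
    refine ⟨u, t, ht, ?_, ?_⟩
    · rw [map_mul, piA_h]
      unfold piA
      rw [toPair_x]
    · rw [hcomp, map_mul, toPair_x, toPair_h]
  · right
    refine ⟨toPair P b1, toPair_mem_B P hb1, toPair P b2, toPair_mem_B P hb2, ?_⟩
    rw [hcomp, map_mul, map_mul, toPair_w]

end Cfsg.Agent.Lib.Helper5.SL2P
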