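import Mathlib

/-!
# Rank one pairs: the relations of `SL₂` (helper5)

A pair `(x, y)` of additive one-parameter families in a group, with
`w t = x t * y (-t⁻¹) * x t` and `h t = w t * w (-1)`, such that `w t * x u * (w t)⁻¹ = y (-t⁻² u)`
and `h` is multiplicative.  Every element of the subgroup generated is in `B ∪ B w B`.
-/

set_option autoImplicit false

namespace Cfsg.Agent.Lib.Helper5.SL2P

/-- a pair of root subgroups satisfying the relations of `SL₂` -/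
structure Pair (K : Type*) [Field K] (Γ : Type*) [Group Γ] where
  x : K → Γ
  y : K → Γ
  x_add : ∀ t u, x t * x u = x (t + u)
  y_add : ∀ t u, y t * y u = y (t + u)
  conj : ∀ t u, t ≠ 0 →
    (x t * y (-t⁻¹) * x t) * x u = y (-(t⁻¹ ^ 2) * u) * (x t * y (-t⁻¹) * x t)
  h_mul : ∀ t u, t ≠ 0 → u ≠ 0 →
    ((x t * y (-t⁻¹) * x t) * (x (-1) * y (-(-1 : K)⁻¹) * x (-1))) *
      ((x u * y (-u⁻¹) * x u) * (x (-1) * y (-(-1 : K)⁻¹) * x (-1)))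
      = (x (t * u) * y (-(t * u)⁻¹) * x (t * u)) * (x (-1) * y (-(-1 : K)⁻¹) * x (-1))

namespace Pair

variable {K : Type*} [Field K] {Γ : Type*} [Group Γ] (P : Pair K Γ)

/-- `w t = x t * y (-t⁻¹) * x t` -/
def w (t : K) : Γ := P.x t * P.y (-t⁻¹) * P.x t

/-- `h t = w t * w (-1)` -/
def h (t : K) : Γ := P.w t * P.w (-1)

theorem x_zero : P.x 0 = 1 := by
  have := P.x_add 0 0
  rw [add_zero] at this
  exact mul_eq_left.1 this

theorem y_zero : P.y 0 = 1 := by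
  have := P.y_add 0 0
  rw [add_zero] at this
  exact mul_eq_left.1 this

theorem x_neg (t : K) : P.x (-t) = (P.x t)⁻¹ := by
  rw [eq_inv_iff_mul_eq_one, P.x_add, neg_add_cancel, P.x_zero]

theorem y_neg (t : K) : P.y (-t) = (P.y t)⁻¹ := by
  rw [eq_inv_iff_mul_eq_one, P.y_add, neg_add_cancel, P.y_zero]

theorem w_neg (t : K) : P.w (-t) = (P.w t)⁻¹ := by
  unfold w
  rw [mul_inv_rev, mul_inv_rev, ← P.x_neg, ← P.y_neg, neg_neg, inv_neg, neg_neg, mul_assoc]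

theorem conj_x (t u : K) (ht : t ≠ 0) : P.w t * P.x u * (P.w t)⁻¹ = P.y (-(t⁻¹ ^ 2) * u) := by
  rw [mul_inv_eq_iff_eq_mul]
  exact P.conj t u ht

theorem conj_y (t u : K) (ht : t ≠ 0) : P.w t * P.y u * (P.w t)⁻¹ = P.x (-(t ^ 2) * u) := by
  have h := P.conj_x (-t) (-(t ^ 2) * u) (neg_ne_zero.2 ht)
  rw [P.w_neg, inv_inv] at h
  have e : -((-t)⁻¹ ^ 2) * (-(t ^ 2) * u) = u := by
    field_simp
  rw [e] at h
  rw [← h]
  group

theorem h_one : P.h 1 = 1 := by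
  unfold h
  rw [P.w_neg, mul_inv_cancel]

theorem h_mul' (t u : K) (ht : t ≠ 0) (hu : u ≠ 0) : P.h t * P.h u = P.h (t * u) :=
  P.h_mul t u ht hu

theorem h_inv (t : K) (ht : t ≠ 0) : (P.h t)⁻¹ = P.h t⁻¹ := by
  rw [inv_eq_iff_mul_eq_one, P.h_mul' t t⁻¹ ht (inv_ne_zero ht), mul_inv_cancel₀ ht, P.h_one]

theorem h_conj_x (t u : K) (ht : t ≠ 0) : P.h t * P.x u * (P.h t)⁻¹ = P.x (t ^ 2 * u) := by
  have h1 := P.conj_x (-1) u (by norm_num)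
  have h2 := P.conj_y t (-((-1 : K)⁻¹ ^ 2) * u) ht
  have e : -(t ^ 2) * (-((-1 : K)⁻¹ ^ 2) * u) = t ^ 2 * u := by
    rw [inv_neg, inv_one]; ring
  rw [e, ← h1] at h2
  rw [← h2]
  unfold h
  group

theorem h_conj_y (t u : K) (ht : t ≠ 0) : P.h t * P.y u * (P.h t)⁻¹ = P.y (t⁻¹ ^ 2 * u) := by
  have h1 := P.conj_y (-1) u (by norm_num)
  have h2 := P.conj_x t (-((-1 : K) ^ 2) * u) ht
  have e : -(t⁻¹ ^ 2) * (-((-1 : K) ^ 2) * u) = t⁻¹ ^ 2 * u := by ring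
  rw [e, ← h1] at h2
  rw [← h2]
  unfold h
  group

theorem w_eq (t : K) : P.w t = P.h t * P.w 1 := by
  unfold h
  rw [P.w_neg, inv_mul_cancel_right]

theorem braid (s : K) (hs : s ≠ 0) : P.y (-s⁻¹) * P.x s * P.y (-s⁻¹) = P.w s := by
  have h := P.conj s s hs
  have e : -(s⁻¹ ^ 2) * s = -s⁻¹ := by
    field_simp
  rw [e] at h
  unfold w
  have h' : P.x s * P.y (-s⁻¹) * P.x s * P.x s = P.y (-s⁻¹) * P.x s * P.y (-s⁻¹) * P.x s := by
    rw [h]; group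
  exact (mul_right_cancel h').symm

theorem w_conj_w (t : K) (ht : t ≠ 0) : P.w 1 * P.w t * (P.w 1)⁻¹ = P.w t⁻¹ := by
  have h1 := P.conj_x 1 t one_ne_zero
  have h2 := P.conj_y 1 (-t⁻¹) one_ne_zero
  have e1 : -((1 : K)⁻¹ ^ 2) * t = -t := by simp
  have e2 : -((1 : K) ^ 2) * (-t⁻¹) = t⁻¹ := by simp
  rw [e1] at h1
  rw [e2] at h2
  have hb := P.braid t⁻¹ (inv_ne_zero ht)
  rw [inv_inv] at hb
  rw [← hb, ← h1, ← h2]
  unfold w
  group

theorem w_conj_h (t : K) (ht : t ≠ 0) : P.w 1 * P.h t * (P.w 1)⁻¹ = P.h t⁻¹ := by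
  have h1 := P.w_conj_w t ht
  have h2 := P.w_conj_w (-1) (by norm_num)
  have e : (-1 : K)⁻¹ = -1 := by rw [inv_neg, inv_one]
  rw [e] at h2
  unfold h
  calc P.w 1 * (P.w t * P.w (-1)) * (P.w 1)⁻¹
      = (P.w 1 * P.w t * (P.w 1)⁻¹) * (P.w 1 * P.w (-1) * (P.w 1)⁻¹) := by group
    _ = P.w t⁻¹ * P.w (-1) := by rw [h1, h2]

theorem w_sq : P.w 1 * P.w 1 = (P.h (-1))⁻¹ := by
  unfold h
  rw [P.w_neg, mul_inv_rev, inv_inv]

/-- the set `B = U H` -/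
def B : Set Γ := {g | ∃ u t : K, t ≠ 0 ∧ g = P.x u * P.h t}

theorem one_mem_B : (1 : Γ) ∈ P.B := ⟨0, 1, one_ne_zero, by rw [P.x_zero, P.h_one, one_mul]⟩

theorem mul_mem_B {a b : Γ} (ha : a ∈ P.B) (hb : b ∈ P.B) : a * b ∈ P.B := by
  obtain ⟨u, t, ht, rfl⟩ := ha
  obtain ⟨u', t', ht', rfl⟩ := hb
  refine ⟨u + t ^ 2 * u', t * t', mul_ne_zero ht ht', ?_⟩
  rw [← P.x_add, ← P.h_mul' t t' ht ht', ← P.h_conj_x t u' ht]
  group

theorem inv_mem_B {a : Γ} (ha : a ∈ P.B) : a⁻¹ ∈ P.B := by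
  obtain ⟨u, t, ht, rfl⟩ := ha
  refine ⟨t⁻¹ ^ 2 * (-u), t⁻¹, inv_ne_zero ht, ?_⟩
  rw [← P.h_conj_x t⁻¹ (-u) (inv_ne_zero ht), P.x_neg, ← P.h_inv t ht]
  group

theorem x_mem_B (u : K) : P.x u ∈ P.B := ⟨u, 1, one_ne_zero, by rw [P.h_one, mul_one]⟩

theorem h_mem_B (t : K) (ht : t ≠ 0) : P.h t ∈ P.B := ⟨0, t, ht, by rw [P.x_zero, one_mul]⟩

/-- the set `B ∪ B w B` -/
def S : Set Γ := {g | g ∈ P.B ∨ ∃ b ∈ P.B, ∃ b' ∈ P.B, g = b * P.w 1 * b'}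

theorem B_mul_S {b g : Γ} (hb : b ∈ P.B) (hg : g ∈ P.S) : b * g ∈ P.S := by
  rcases hg with hg | ⟨b1, hb1, b2, hb2, rfl⟩
  · exact Or.inl (P.mul_mem_B hb hg)
  · exact Or.inr ⟨b * b1, P.mul_mem_B hb hb1, b2, hb2, by group⟩

theorem y_mem_S (u : K) : P.y u ∈ P.S := by
  by_cases hu : u = 0
  · rw [hu, P.y_zero]
    exact Or.inl P.one_mem_B
  · right
    -- `y u = x (u⁻¹) * w (-u⁻¹) * x (u⁻¹)`
    have hs : -u⁻¹ ≠ 0 := neg_ne_zero.2 (inv_ne_zero hu)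
    refine ⟨P.x u⁻¹ * P.h (-u⁻¹), P.mul_mem_B (P.x_mem_B _) (P.h_mem_B _ hs), P.x u⁻¹,
      P.x_mem_B _, ?_⟩
    rw [mul_assoc (P.x u⁻¹), ← P.w_eq]
    unfold w
    have e : -(-u⁻¹)⁻¹ = u := by rw [inv_neg, inv_inv, neg_neg]
    rw [e, P.x_neg]
    group

theorem w_mul_S {g : Γ} (hg : g ∈ P.S) : P.w 1 * g ∈ P.S := by
  rcases hg with hg | ⟨b1, hb1, b2, hb2, rfl⟩
  · exact Or.inr ⟨1, P.one_mem_B, g, hg, by rw [one_mul]⟩
  · obtain ⟨u, t, ht, rfl⟩ := hb1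
    have h1 := P.conj_x 1 u one_ne_zero
    have e1 : -((1 : K)⁻¹ ^ 2) * u = -u := by simp
    rw [e1] at h1
    have h2 := P.w_conj_h t ht
    have e : P.w 1 * (P.x u * P.h t * P.w 1 * b2)
        = P.y (-u) * (P.h t⁻¹ * ((P.h (-1))⁻¹ * b2)) := by
      rw [← h1, ← h2, ← P.w_sq]
      group
    rw [e]
    have hb : P.h t⁻¹ * ((P.h (-1))⁻¹ * b2) ∈ P.B :=
      P.mul_mem_B (P.h_mem_B _ (inv_ne_zero ht))
        (P.mul_mem_B (P.inv_mem_B (P.h_mem_B _ (by norm_num))) hb2)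
    rcases P.y_mem_S (-u) with hy | ⟨c1, hc1, c2, hc2, hy⟩
    · exact Or.inl (P.mul_mem_B hy hb)
    · rw [hy]
      exact Or.inr ⟨c1, hc1, c2 * (P.h t⁻¹ * ((P.h (-1))⁻¹ * b2)), P.mul_mem_B hc2 hb, by group⟩

theorem w_inv_mul_S {g : Γ} (hg : g ∈ P.S) : (P.w 1)⁻¹ * g ∈ P.S := by
  have e : (P.w 1)⁻¹ = P.h (-1) * P.w 1 := by
    rw [← P.w_eq, P.w_neg]
  rw [e, mul_assoc]
  exact P.B_mul_S (P.h_mem_B _ (by norm_num)) (P.w_mul_S hg)

theorem y_mul_S (u : K) {g : Γ} (hg : g ∈ P.S) : P.y u * g ∈ P.S := by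
  have h1 := P.conj_x 1 (-u) one_ne_zero
  have e1 : -((1 : K)⁻¹ ^ 2) * (-u) = u := by simp
  rw [e1] at h1
  rw [← h1, mul_assoc, mul_assoc]
  exact P.w_mul_S (P.B_mul_S (P.x_mem_B _) (P.w_inv_mul_S hg))

/-- every element of the subgroup generated by the pair lies in `B ∪ B w B` -/
theorem closure_subset_S : ((Subgroup.closure (Set.range P.x ∪ Set.range P.y) : Subgroup Γ) : Set Γ)
    ⊆ P.S := by
  intro g hg
  have key : ∀ s ∈ P.S, g * s ∈ P.S ∧ g⁻¹ * s ∈ P.S := by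
    induction hg using Subgroup.closure_induction with
    | mem a ha =>
      intro s hs
      rcases ha with ⟨t, rfl⟩ | ⟨t, rfl⟩
      · refine ⟨P.B_mul_S (P.x_mem_B t) hs, ?_⟩
        rw [← P.x_neg]
        exact P.B_mul_S (P.x_mem_B _) hs
      · refine ⟨P.y_mul_S t hs, ?_⟩
        rw [← P.y_neg]
        exact P.y_mul_S _ hs
    | one =>
      intro s hs
      simp [hs]
    | mul a b _ _ iha ihb =>
      intro s hs
      refine ⟨?_, ?_⟩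
      · rw [mul_assoc]
        exact (iha _ (ihb s hs).1).1
      · rw [mul_inv_rev, mul_assoc]
        exact (ihb _ (iha s hs).2).2
    | inv a _ iha =>
      intro s hs
      rw [inv_inv]
      exact ⟨(iha s hs).2, (iha s hs).1⟩
  have := (key 1 (Or.inl P.one_mem_B)).1
  rwa [mul_one] at this

/-- the image of a pair under a homomorphism -/
def map {Γ' : Type*} [Group Γ'] (f : Γ →* Γ') : Pair K Γ' where
  x t := f (P.x t)
  y t := f (P.y t)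
  x_add t u := by rw [← map_mul, P.x_add]
  y_add t u := by rw [← map_mul, P.y_add]
  conj t u ht := by
    simp only [← map_mul]
    rw [P.conj t u ht]
  h_mul t u ht hu := by
    simp only [← map_mul]
    rw [P.h_mul t u ht hu]

theorem map_w {Γ' : Type*} [Group Γ'] (f : Γ →* Γ') (t : K) : (P.map f).w t = f (P.w t) := by
  unfold w map
  simp only [map_mul]

theorem map_h {Γ' : Type*} [Group Γ'] (f : Γ →* Γ') (t : K) : (P.map f).h t = f (P.h t) := by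
  unfold h
  rw [map_w, map_w, map_mul]

end Pair

end Cfsg.Agent.Lib.Helper5.SL2P
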