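import Cfsg.Agent.Lib.Helper5.SL2P.Pair
import Mathlib

/-!
# The presentation of `SL₂(K)` by the relations of a rank one pair (helper5)
-/

set_option autoImplicit false

namespace Cfsg.Agent.Lib.Helper5.SL2P

open Matrix

variable (K : Type*) [Field K]

/-- upper elementary matrix -/
def sx (t : K) : SpecialLinearGroup (Fin 2) K := ⟨!![1, t; 0, 1], by simp [det_fin_two]⟩

/-- lower elementary matrix -/
def sy (t : K) : SpecialLinearGroup (Fin 2) K := ⟨!![1, 0; t, 1], by simp [det_fin_two]⟩

variable {K}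

theorem sx_val (t : K) : ((sx K t : SpecialLinearGroup (Fin 2) K) : Matrix (Fin 2) (Fin 2) K)
    = !![1, t; 0, 1] := rfl

theorem sy_val (t : K) : ((sy K t : SpecialLinearGroup (Fin 2) K) : Matrix (Fin 2) (Fin 2) K)
    = !![1, 0; t, 1] := rfl

theorem sl_ext {A B : SpecialLinearGroup (Fin 2) K}
    (h00 : (A : Matrix (Fin 2) (Fin 2) K) 0 0 = (B : Matrix (Fin 2) (Fin 2) K) 0 0)
    (h01 : (A : Matrix (Fin 2) (Fin 2) K) 0 1 = (B : Matrix (Fin 2) (Fin 2) K) 0 1)
    (h10 : (A : Matrix (Fin 2) (Fin 2) K) 1 0 = (B : Matrix (Fin 2) (Fin 2) K) 1 0)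
    (h11 : (A : Matrix (Fin 2) (Fin 2) K) 1 1 = (B : Matrix (Fin 2) (Fin 2) K) 1 1) : A = B := by
  apply Subtype.ext
  ext i j
  fin_cases i <;> fin_cases j <;> assumption

theorem sw_val (t : K) (ht : t ≠ 0) :
    ((sx K t * sy K (-t⁻¹) * sx K t : SpecialLinearGroup (Fin 2) K) : Matrix (Fin 2) (Fin 2) K)
      = !![0, t; -t⁻¹, 0] := by
  rw [Matrix.SpecialLinearGroup.coe_mul, Matrix.SpecialLinearGroup.coe_mul, sx_val, sy_val]
  ext i j
  fin_cases i <;> fin_cases j <;> simp [Matrix.mul_apply, Fin.sum_univ_two, ht]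

theorem sh_val (t : K) (ht : t ≠ 0) :
    (((sx K t * sy K (-t⁻¹) * sx K t) * (sx K (-1) * sy K (-(-1 : K)⁻¹) * sx K (-1)) :
      SpecialLinearGroup (Fin 2) K) : Matrix (Fin 2) (Fin 2) K) = !![t, 0; 0, t⁻¹] := by
  rw [Matrix.SpecialLinearGroup.coe_mul, sw_val t ht, sw_val (-1) (by norm_num)]
  ext i j
  fin_cases i <;> fin_cases j <;> simp [Matrix.mul_apply, Fin.sum_univ_two]

/-- the standard pair of `SL₂(K)` -/
def slPair (K : Type*) [Field K] : Pair K (SpecialLinearGroup (Fin 2) K) where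
  x := sx K
  y := sy K
  x_add t u := by
    apply sl_ext <;> rw [Matrix.SpecialLinearGroup.coe_mul, sx_val, sx_val, sx_val] <;>
      simp [Matrix.mul_apply, Fin.sum_univ_two, add_comm]
  y_add t u := by
    apply sl_ext <;> rw [Matrix.SpecialLinearGroup.coe_mul, sy_val, sy_val, sy_val] <;>
      simp [Matrix.mul_apply, Fin.sum_univ_two, add_comm]
  conj t u ht := by
    apply Subtype.ext
    rw [Matrix.SpecialLinearGroup.coe_mul (sx K t * sy K (-t⁻¹) * sx K t) (sx K u),
      Matrix.SpecialLinearGroup.coe_mul (sy K (-(t⁻¹ ^ 2) * u)) (sx K t * sy K (-t⁻¹) * sx K t),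
      sw_val t ht, sx_val, sy_val]
    ext i j
    fin_cases i <;> fin_cases j <;> simp [Matrix.mul_apply, Fin.sum_univ_two]
    field_simp
  h_mul t u ht hu := by
    apply Subtype.ext
    rw [Matrix.SpecialLinearGroup.coe_mul, sh_val t ht, sh_val u hu, sh_val (t * u) (mul_ne_zero ht hu)]
    ext i j
    fin_cases i <;> fin_cases j <;> simp [Matrix.mul_apply, Fin.sum_univ_two, mul_comm]

theorem slPair_x (t : K) : (slPair K).x t = sx K t := rfl
theorem slPair_y (t : K) : (slPair K).y t = sy K t := rfl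

theorem slPair_w_val (t : K) (ht : t ≠ 0) :
    (((slPair K).w t : SpecialLinearGroup (Fin 2) K) : Matrix (Fin 2) (Fin 2) K)
      = !![0, t; -t⁻¹, 0] := sw_val t ht

theorem slPair_h_val (t : K) (ht : t ≠ 0) :
    (((slPair K).h t : SpecialLinearGroup (Fin 2) K) : Matrix (Fin 2) (Fin 2) K)
      = !![t, 0; 0, t⁻¹] := sh_val t ht

/-! ### the presented group -/

/-- the generator `x(t)` of the free group -/
def fx (t : K) : FreeGroup (Bool × K) := FreeGroup.of (false, t)
/-- the generator `y(t)` of the free group -/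
def fy (t : K) : FreeGroup (Bool × K) := FreeGroup.of (true, t)
/-- `w(t)` in the free group -/
def fw (t : K) : FreeGroup (Bool × K) := fx t * fy (-t⁻¹) * fx t

/-- the relators -/
def rels (K : Type*) [Field K] : Set (FreeGroup (Bool × K)) :=
  {g | ∃ t u : K, g = fx t * fx u * (fx (t + u))⁻¹} ∪
  {g | ∃ t u : K, g = fy t * fy u * (fy (t + u))⁻¹} ∪
  {g | ∃ t u : K, t ≠ 0 ∧ g = fw t * fx u * (fy (-(t⁻¹ ^ 2) * u) * fw t)⁻¹} ∪
  {g | ∃ t u : K, t ≠ 0 ∧ u ≠ 0 ∧
    g = (fw t * fw (-1)) * (fw u * fw (-1)) * (fw (t * u) * fw (-1))⁻¹}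

/-- the presented group -/
abbrev A (K : Type*) [Field K] : Type _ := PresentedGroup (rels K)

/-- the universal pair -/
def aPair (K : Type*) [Field K] : Pair K (A K) where
  x t := PresentedGroup.mk (rels K) (fx t)
  y t := PresentedGroup.mk (rels K) (fy t)
  x_add t u := by
    have hm : fx t * fx u * (fx (t + u))⁻¹ ∈ rels K := Or.inl (Or.inl (Or.inl ⟨t, u, rfl⟩))
    have h := PresentedGroup.one_of_mem hm
    rw [map_mul, map_inv, mul_inv_eq_one, map_mul] at h
    exact h
  y_add t u := by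
    have hm : fy t * fy u * (fy (t + u))⁻¹ ∈ rels K := Or.inl (Or.inl (Or.inr ⟨t, u, rfl⟩))
    have h := PresentedGroup.one_of_mem hm
    rw [map_mul, map_inv, mul_inv_eq_one, map_mul] at h
    exact h
  conj t u ht := by
    have hm : fw t * fx u * (fy (-(t⁻¹ ^ 2) * u) * fw t)⁻¹ ∈ rels K :=
      Or.inl (Or.inr ⟨t, u, ht, rfl⟩)
    have h := PresentedGroup.one_of_mem hm
    rw [map_mul, map_inv, mul_inv_eq_one] at h
    simp only [fw, map_mul] at h
    exact h
  h_mul t u ht hu := by
    have hm : (fw t * fw (-1)) * (fw u * fw (-1)) * (fw (t * u) * fw (-1))⁻¹ ∈ rels K :=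
      Or.inr ⟨t, u, ht, hu, rfl⟩
    have h := PresentedGroup.one_of_mem hm
    rw [map_mul, map_inv, mul_inv_eq_one] at h
    simp only [fw, map_mul] at h
    exact h

/-- the homomorphism from the presented group defined by a pair -/
noncomputable def toPair {Γ : Type*} [Group Γ] (P : Pair K Γ) : A K →* Γ :=
  PresentedGroup.toGroup (f := fun p : Bool × K => cond p.1 (P.y p.2) (P.x p.2)) (by
    intro r hr
    rcases hr with ((⟨t, u, rfl⟩ | ⟨t, u, rfl⟩) | ⟨t, u, ht, rfl⟩) | ⟨t, u, ht, hu, rfl⟩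
    · simp only [fx, map_mul, map_inv, FreeGroup.lift_apply_of, cond_false]
      rw [P.x_add, mul_inv_cancel]
    · simp only [fy, map_mul, map_inv, FreeGroup.lift_apply_of, cond_true]
      rw [P.y_add, mul_inv_cancel]
    · simp only [fw, fx, fy, map_mul, map_inv, FreeGroup.lift_apply_of, cond_true, cond_false]
      rw [mul_inv_eq_one]
      exact P.conj t u ht
    · simp only [fw, fx, fy, map_mul, map_inv, FreeGroup.lift_apply_of, cond_true, cond_false]
      rw [mul_inv_eq_one]
      exact P.h_mul t u ht hu)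

theorem toPair_x {Γ : Type*} [Group Γ] (P : Pair K Γ) (t : K) :
    toPair P ((aPair K).x t) = P.x t := by
  unfold toPair aPair fx
  exact PresentedGroup.toGroup.of _

theorem toPair_y {Γ : Type*} [Group Γ] (P : Pair K Γ) (t : K) :
    toPair P ((aPair K).y t) = P.y t := by
  unfold toPair aPair fy
  exact PresentedGroup.toGroup.of _

theorem closure_aPair :
    Subgroup.closure (Set.range (aPair K).x ∪ Set.range (aPair K).y) = ⊤ := by
  rw [eq_top_iff, ← PresentedGroup.closure_range_of, Subgroup.closure_le]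
  rintro _ ⟨⟨b, t⟩, rfl⟩
  apply Subgroup.subset_closure
  cases b
  · exact Or.inl ⟨t, rfl⟩
  · exact Or.inr ⟨t, rfl⟩

theorem range_toPair {Γ : Type*} [Group Γ] (P : Pair K Γ) :
    (toPair P).range = Subgroup.closure (Set.range P.x ∪ Set.range P.y) := by
  rw [MonoidHom.range_eq_map, ← closure_aPair, MonoidHom.map_closure, Set.image_union]
  congr 2
  · ext g
    constructor
    · rintro ⟨_, ⟨t, rfl⟩, rfl⟩
      exact ⟨t, (toPair_x P t).symm⟩
    · rintro ⟨t, rfl⟩
      exact ⟨_, ⟨t, rfl⟩, toPair_x P t⟩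
  · ext g
    constructor
    · rintro ⟨_, ⟨t, rfl⟩, rfl⟩
      exact ⟨t, (toPair_y P t).symm⟩
    · rintro ⟨t, rfl⟩
      exact ⟨_, ⟨t, rfl⟩, toPair_y P t⟩

/-- the canonical map to `SL₂(K)` -/
noncomputable def piA (K : Type*) [Field K] : A K →* SpecialLinearGroup (Fin 2) K :=
  toPair (slPair K)

theorem piA_w (t : K) : piA K ((aPair K).w t) = (slPair K).w t := by
  unfold Pair.w
  rw [map_mul, map_mul]
  unfold piA
  rw [toPair_x, toPair_y]

theorem piA_h (t : K) : piA K ((aPair K).h t) = (slPair K).h t := by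
  unfold Pair.h
  rw [map_mul, piA_w, piA_w]

theorem piA_injective : Function.Injective (piA K) := by
  rw [injective_iff_map_eq_one]
  intro a ha
  have haS : a ∈ (aPair K).S := by
    apply (aPair K).closure_subset_S
    rw [closure_aPair]
    exact Subgroup.mem_top a
  rcases haS with ⟨u, t, ht, rfl⟩ | ⟨b1, ⟨u, t, ht, rfl⟩, b2, ⟨u', t', ht', rfl⟩, rfl⟩
  · -- `x u * h t`
    rw [map_mul, piA_h] at ha
    unfold piA at ha
    rw [toPair_x] at ha
    have hv : ((slPair K).x u : Matrix (Fin 2) (Fin 2) K) * ((slPair K).h t : Matrix (Fin 2) (Fin 2) K)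
        = 1 := by
      rw [← Matrix.SpecialLinearGroup.coe_mul, ha, Matrix.SpecialLinearGroup.coe_one]
    rw [slPair_h_val t ht, slPair_x, sx_val] at hv
    have h00 := congrFun (congrFun hv 0) 0
    have h01 := congrFun (congrFun hv 0) 1
    simp [Matrix.mul_apply, Fin.sum_univ_two] at h00 h01
    have hu : u = 0 := by
      rcases h01 with h | h
      · exact h
      · exact absurd h ht
    rw [hu, h00, (aPair K).x_zero, (aPair K).h_one, one_mul]
  · exfalso
    rw [map_mul, map_mul, map_mul, map_mul, piA_h, piA_h, piA_w] at ha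
    unfold piA at ha
    rw [toPair_x, toPair_x] at ha
    have hv : ((slPair K).x u : Matrix (Fin 2) (Fin 2) K) *
        ((slPair K).h t : Matrix (Fin 2) (Fin 2) K) * ((slPair K).w 1 : Matrix (Fin 2) (Fin 2) K) *
        (((slPair K).x u' : Matrix (Fin 2) (Fin 2) K) *
          ((slPair K).h t' : Matrix (Fin 2) (Fin 2) K)) = 1 := by
      rw [← Matrix.SpecialLinearGroup.coe_mul, ← Matrix.SpecialLinearGroup.coe_mul,
        ← Matrix.SpecialLinearGroup.coe_mul, ← Matrix.SpecialLinearGroup.coe_mul, ha,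
        Matrix.SpecialLinearGroup.coe_one]
    rw [slPair_h_val t ht, slPair_h_val t' ht', slPair_w_val 1 one_ne_zero, slPair_x, slPair_x,
      sx_val, sx_val] at hv
    have h10 := congrFun (congrFun hv 1) 0
    simp [Matrix.mul_apply, Fin.sum_univ_two] at h10
    rcases h10 with h | h
    · exact ht h
    · exact ht' h

theorem piA_surjective : Function.Surjective (piA K) := by
  intro g
  have hdet : (g : Matrix (Fin 2) (Fin 2) K) 0 0 * (g : Matrix (Fin 2) (Fin 2) K) 1 1
      - (g : Matrix (Fin 2) (Fin 2) K) 0 1 * (g : Matrix (Fin 2) (Fin 2) K) 1 0 = 1 := by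
    rw [← det_fin_two]; exact g.2
  generalize ha' : (g : Matrix (Fin 2) (Fin 2) K) 0 0 = a at hdet
  generalize hb' : (g : Matrix (Fin 2) (Fin 2) K) 0 1 = b at hdet
  generalize hc' : (g : Matrix (Fin 2) (Fin 2) K) 1 0 = c at hdet
  generalize hd' : (g : Matrix (Fin 2) (Fin 2) K) 1 1 = d at hdet
  by_cases hc : c = 0
  · -- upper triangular
    have ha : a ≠ 0 := by
      intro h
      rw [h, hc] at hdet
      simp at hdet
    refine ⟨(aPair K).h a * (aPair K).x (b / a), ?_⟩
    rw [map_mul, piA_h]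
    unfold piA
    rw [toPair_x]
    apply sl_ext
    all_goals
      rw [Matrix.SpecialLinearGroup.coe_mul, slPair_h_val _ ha, slPair_x, sx_val]
      simp [Matrix.mul_apply, Fin.sum_univ_two]
    · exact ha'.symm
    · rw [hb']; field_simp
    · rw [hc', hc]
    · have had : a * d = 1 := by
        rw [hc, mul_zero, sub_zero] at hdet
        exact hdet
      rw [hd']
      field_simp
      linear_combination -had
  · refine ⟨(aPair K).x ((a - 1) / c) * (aPair K).y c * (aPair K).x ((d - 1) / c), ?_⟩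
    rw [map_mul, map_mul]
    unfold piA
    rw [toPair_x, toPair_x, toPair_y]
    apply sl_ext
    all_goals
      rw [Matrix.SpecialLinearGroup.coe_mul, Matrix.SpecialLinearGroup.coe_mul, slPair_x, slPair_x,
        slPair_y, sx_val, sx_val, sy_val]
      simp [Matrix.mul_apply, Fin.sum_univ_two]
    · rw [ha']; field_simp; ring
    · rw [hb']; field_simp; linear_combination hdet
    · rw [hc']
    · rw [hd']; field_simp; ring

/-- `SL₂(K)` is presented by the relations of a rank one pair -/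
noncomputable def equivA (K : Type*) [Field K] : A K ≃* SpecialLinearGroup (Fin 2) K :=
  MulEquiv.ofBijective (piA K) ⟨piA_injective, piA_surjective⟩

/-- a rank one pair in a group defines a homomorphism from `SL₂(K)` -/
theorem Pair.exists_hom {Γ : Type*} [Group Γ] (P : Pair K Γ) :
    ∃ φ : SpecialLinearGroup (Fin 2) K →* Γ,
      φ.range = Subgroup.closure (Set.range P.x ∪ Set.range P.y) ∧
      (∀ t : K, φ (sx K t) = P.x t) ∧ (∀ t : K, φ (sy K t) = P.y t) := by
  refine ⟨(toPair P).comp (equivA K).symm.toMonoidHom, ?_, ?_, ?_⟩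
  · rw [MonoidHom.range_comp, ← range_toPair]
    have : (equivA K).symm.toMonoidHom.range = ⊤ :=
      MonoidHom.range_eq_top.2 (equivA K).symm.surjective
    rw [this, ← MonoidHom.range_eq_map]
  · intro t
    have : (equivA K).symm (sx K t) = (aPair K).x t := by
      rw [MulEquiv.symm_apply_eq]
      change sx K t = piA K ((aPair K).x t)
      unfold piA
      rw [toPair_x]
      rfl
    rw [MonoidHom.comp_apply, MulEquiv.coe_toMonoidHom, this, toPair_x]
  · intro t
    have : (equivA K).symm (sy K t) = (aPair K).y t := by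
      rw [MulEquiv.symm_apply_eq]
      change sy K t = piA K ((aPair K).y t)
      unfold piA
      rw [toPair_y]
      rfl
    rw [MonoidHom.comp_apply, MulEquiv.coe_toMonoidHom, this, toPair_y]

end Cfsg.Agent.Lib.Helper5.SL2P
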